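import Groth.Agent.S0415
import Groth.Agent.Lib.UnivHomeo.Morph
import Groth.Prelude.Def_Frob
import Mathlib.AlgebraicGeometry.Morphisms.Integral
import Mathlib.AlgebraicGeometry.Morphisms.UniversallyInjective
import Mathlib.AlgebraicGeometry.ResidueField

/-!
# The Frobenius morphisms are universal homeomorphisms
-/

universe u

set_option linter.style.haveILetI false

open CategoryTheory CategoryTheory.Limits AlgebraicGeometry

namespace Groth.Agent.FrobUH12

variable (X : Scheme.{u}) (p : ℕ) [Fact p.Prime] [FrobSch.IsCharP X p]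

theorem isIntegralElem_of_eq_pow {A : Type u} [CommRing A] (φ : A →+* A) (n : ℕ) (hn : n ≠ 0)
    (h : ∀ t, φ t = t ^ n) (s : A) : φ.IsIntegralElem s :=
  ⟨Polynomial.X ^ n - Polynomial.C s, Polynomial.monic_X_pow_sub_C s hn, by
    simp [h]⟩

theorem isIntegralHom_frob : IsIntegralHom (FrobSch.frob X p) := by
  haveI : IsAffineHom (FrobSch.frob X p) := ⟨fun U hU => by
    simpa only [FrobSch.frob_preimage] using hU⟩
  refine ⟨fun U _ s => ?_⟩
  exact isIntegralElem_of_eq_pow (A := Γ(X, U)) ((FrobSch.frob X p).app U).hom p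
    (Fact.out : p.Prime).ne_zero (fun t => FrobSch.frob_app X p U t) s

theorem exists_evaluation {x : X} (z : X.residueField x) :
    ∃ (U : X.Opens) (hx : x ∈ U) (s : Γ(X, U)), X.evaluation U x hx s = z := by
  obtain ⟨t, rfl⟩ := X.residue_surjective x z
  obtain ⟨U, hx, s, rfl⟩ := X.presheaf.exists_germ_eq (x := x) t
  exact ⟨U, hx, s, rfl⟩

theorem isPurelyInseparable_frob (x : X) :
    ((FrobSch.frob X p).residueFieldMap x).hom.IsPurelyInseparable := by
  let φ := ((FrobSch.frob X p).residueFieldMap x).hom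
  letI := φ.toAlgebra
  let K := X.residueField (FrobSch.frob X p x)
  have hp : (p : K) = 0 := by
    have h := congrArg (X.evaluation ⊤ (FrobSch.frob X p x) trivial).hom
      (FrobSch.natCast_eq_zero_app X p ⊤)
    simpa only [map_natCast, map_zero] using h
  haveI : CharP K p := (CharP.charP_iff_prime_eq_zero Fact.out).2 hp
  haveI : ExpChar K p := ExpChar.prime Fact.out
  show _root_.IsPurelyInseparable K (X.residueField x)
  rw [isPurelyInseparable_iff_pow_mem K p]
  intro z
  obtain ⟨U, hx, s, rfl⟩ := exists_evaluation X z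
  refine ⟨1, X.evaluation U (FrobSch.frob X p x) hx s, ?_⟩
  refine (Scheme.evaluation_naturality_apply (FrobSch.frob X p) x hx s).trans ?_
  rw [pow_one]
  exact map_pow (X.evaluation U x hx).hom s p

theorem isUnivHomeo_frob : FlatMor.IsUnivHomeo (FrobSch.frob X p) := by
  haveI := isIntegralHom_frob X p
  haveI : Surjective (FrobSch.frob X p) := ⟨fun x => ⟨x, rfl⟩⟩
  haveI : UniversallyInjective (FrobSch.frob X p) := by
    rw [(tfae_universallyInjective _).out 0 2 (a := UniversallyInjective _)]
    exact ⟨fun a b h => h, isPurelyInseparable_frob X p⟩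
  exact UH.isUnivHomeo_of _

theorem isUnivHomeo_relFrob {X S : Scheme.{u}} [FrobSch.IsCharP S p] (f : X ⟶ S) :
    FlatMor.IsUnivHomeo (FrobSch.relFrob f p) := by
  haveI := FrobSch.IsCharP.of_hom f p
  refine UH.of_comp_right (g := pullback.fst f (FrobSch.frob S p)) ?_
    (UH.isUnivHomeo_fst f _ (isUnivHomeo_frob S p))
  rw [FrobSch.relFrob_fst]
  exact isUnivHomeo_frob X p

end Groth.Agent.FrobUH12
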